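import Groth.Prelude.Def_Omega4
import Groth.Agent.QCohLib.Criterion
import Groth.Agent.QCohLib.StalkLoc
import Groth.Agent.InvBasic.QCoh

/-! Sections of ideal sheaves as modules, and the pullback map between them. -/

set_option autoImplicit false
universe u
open CategoryTheory Limits AlgebraicGeometry TopologicalSpace Opposite

namespace Groth.Agent.ConormalSection

variable {X X' : Scheme.{u}} (K : X.IdealSheafData)

theorem isQuasicoherent_idealMod : (ClSub.idealMod K).IsQuasicoherent := by
  have := InvBasic.isQuasicoherent_structureModule X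
  have := InvBasic.isQuasicoherent_structureModule K.subscheme
  have := QCohLib.isQuasicoherent_pushforward (M := Coh.structureModule K.subscheme) K.subschemeι
  exact QCohLib.isQuasicoherent_kernel (ClSub.toSubscheme K)

theorem idealSect_injective (W : X.Opens) : Function.Injective (OmegaSh.idealSect K W) :=
  OmegaSh.idealModι_app_injective W K

theorem idealSect_smul (W : X.Opens) (r : Γ(X, W)) (m : Γ(ClSub.idealMod K, W)) :
    OmegaSh.idealSect K W (r • m) = r * OmegaSh.idealSect K W m :=
  Scheme.Modules.Hom.app_smul (ClSub.idealModι K) r m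

theorem subschemeι_app_idealSect (W : X.Opens) (m : Γ(ClSub.idealMod K, W)) :
    K.subschemeι.app W (OmegaSh.idealSect K W m) = 0 :=
  congr(($(kernel.condition (ClSub.toSubscheme K))).app W m)

theorem idealSect_mem (V : X.affineOpens) (m : Γ(ClSub.idealMod K, V.1)) :
    OmegaSh.idealSect K V.1 m ∈ K.ideal V := by
  rw [← Scheme.IdealSheafData.ker_subschemeι_app, RingHom.mem_ker]
  exact subschemeι_app_idealSect K V.1 m

theorem exists_idealSect_eq (V : X.affineOpens) (a : Γ(X, V.1)) (ha : a ∈ K.ideal V) :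
    ∃ m, OmegaSh.idealSect K V.1 m = a := by
  rw [← Scheme.IdealSheafData.ker_subschemeι_app, RingHom.mem_ker] at ha
  exact ⟨OmegaSh.kerLift (ClSub.toSubscheme K) V.1 (OmegaSh.strSect X V.1 a) ha,
    OmegaSh.ι_kerLift (ClSub.toSubscheme K) V.1 _ _⟩

/-- the map induced on ideal modules by a morphism of the ambient schemes -/
theorem exists_pullbackIdealHom (K' : X'.IdealSheafData) (f : X' ⟶ X) (h : K ≤ K'.map f) :
    ∃ φ : (Scheme.Modules.pullback f).obj (ClSub.idealMod K) ⟶ ClSub.idealMod K',
      ∀ (W : X.Opens) (m : Γ(ClSub.idealMod K, W)),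
        OmegaSh.idealSect K' (f ⁻¹ᵁ W) (φ.app (f ⁻¹ᵁ W) (OmegaSh.pullSect f _ W m)) =
          f.app W (OmegaSh.idealSect K W m) := by
  let g : K'.subscheme ⟶ K.subscheme :=
    IsClosedImmersion.lift K.subschemeι (K'.subschemeι ≫ f) (by rwa [K.ker_subschemeι])
  have hg : g ≫ K.subschemeι = K'.subschemeι ≫ f := IsClosedImmersion.lift_fac _ _ _
  let adj := Scheme.Modules.pullbackPushforwardAdjunction f
  let c : ClSub.idealMod K ⟶ (Scheme.Modules.pushforward f).obj (Coh.structureModule X') :=
    ClSub.idealModι K ≫ ClSub.unitToPush f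
  let d := (adj.homEquiv _ _).symm c
  have hd0 : d ≫ ClSub.toSubscheme K' = 0 := by
    refine (adj.homEquiv _ _).injective ?_
    rw [Adjunction.homEquiv_naturality_right, Equiv.apply_symm_apply, Adjunction.homEquiv_unit,
      Functor.map_zero, comp_zero]
    refine Scheme.Modules.hom_ext _ _ fun W => ?_
    ext m
    show K'.subschemeι.app (f ⁻¹ᵁ W) (f.app W (OmegaSh.idealSect K W m)) = 0
    have key : ∀ ψ : K'.subscheme ⟶ X, g ≫ K.subschemeι = ψ →
        ψ.app W (OmegaSh.idealSect K W m) = 0 := by
      rintro ψ rfl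
      exact (congrArg (g.app _) (subschemeι_app_idealSect K W m)).trans (map_zero _)
    exact key _ hg
  refine ⟨kernel.lift (ClSub.toSubscheme K') d hd0, fun W m => ?_⟩
  let φ := kernel.lift (ClSub.toSubscheme K') d hd0
  have e : φ ≫ ClSub.idealModι K' = d := kernel.lift_ι _ _ _
  show OmegaSh.fnSect X' _ ((φ ≫ ClSub.idealModι K').app (f ⁻¹ᵁ W) (OmegaSh.pullSect f _ W m)) = _
  rw [e]
  exact congr(($(Equiv.apply_symm_apply (adj.homEquiv (ClSub.idealMod K) (Coh.structureModule X')) c)).app W m)

end Groth.Agent.ConormalSection
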