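import Groth.Agent.ConormalSection.PullbackStalk
import Groth.Agent.QCohLib.StalkLoc
import Groth.Agent.QCohLib.Pullback
import Groth.Prelude.Def_Omega4

/-! Sections of a quasi-coherent pullback over affines are spanned by pulled back sections. -/

set_option autoImplicit false
universe u
open CategoryTheory Limits AlgebraicGeometry TopologicalSpace Opposite

namespace Groth.Agent.ConormalSection

variable {X X' : Scheme.{u}} (π : X' ⟶ X) (M : X.Modules)

/-- a section pulled back and restricted -/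
noncomputable def pullRes {W : X.Opens} {U : X'.Opens} (h : U ≤ π ⁻¹ᵁ W) (m : Γ(M, W)) :
    Γ((Scheme.Modules.pullback π).obj M, U) :=
  ((Scheme.Modules.pullback π).obj M).presheaf.map (homOfLE h).op (OmegaSh.pullSect π M W m)

theorem pullRes_smul {W : X.Opens} {U : X'.Opens} (h : U ≤ π ⁻¹ᵁ W) (a : Γ(X, W)) (m : Γ(M, W)) :
    pullRes π M h (a • m) = π.appLE W U h a • pullRes π M h m := by
  rw [pullRes, OmegaSh.pullSect_smul, Scheme.Modules.map_smul]
  rfl

theorem pullRes_add {W : X.Opens} {U : X'.Opens} (h : U ≤ π ⁻¹ᵁ W) (m n : Γ(M, W)) :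
    pullRes π M h (m + n) = pullRes π M h m + pullRes π M h n := by
  simp only [pullRes, map_add]

theorem span_pullRes [M.IsQuasicoherent] {W : X.Opens} {U : X'.Opens} (hW : IsAffineOpen W)
    (hU : IsAffineOpen U) (h : U ≤ π ⁻¹ᵁ W) :
    Submodule.span Γ(X', U) (Set.range (pullRes π M h)) = ⊤ := by
  let P := (Scheme.Modules.pullback π).obj M
  have : P.IsQuasicoherent := QCohLib.isQuasicoherent_pullback π M
  let L := Submodule.span Γ(X', U) (Set.range (pullRes π M h))
  have hgen : ∀ (x : X') (hx : x ∈ U) (γ : P.presheaf.stalk x), ∃ f, ∃ z ∈ L, x ∈ X'.basicOpen f ∧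
      X'.presheaf.germ U x hx f • γ = P.presheaf.germ U x hx z := by
    intro x hx γ
    have hone : x ∈ X'.basicOpen (1 : Γ(X', U)) := by
      rw [X'.basicOpen_of_isUnit isUnit_one]; exact hx
    have hγ : γ ∈ Submodule.span (X'.presheaf.stalk x) (pullGerms π M x) := by
      rw [span_pullGerms]; trivial
    induction hγ using Submodule.span_induction with
    | mem γ hγ =>
      obtain ⟨W₁, hW₁, m, rfl⟩ := hγ
      obtain ⟨a, m₀, ha, hm₀⟩ := QCohLib.exists_smul_eq_germ (M := M) hW (π x) (h hx)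
        (M.presheaf.germ W₁ (π x) hW₁ m)
      refine ⟨π.appLE W U h a, pullRes π M h m₀, Submodule.subset_span ⟨m₀, rfl⟩, ?_, ?_⟩
      · rw [Scheme.Hom.appLE, CommRingCat.comp_apply, Scheme.basicOpen_res]
        exact ⟨hx, by rw [← Scheme.preimage_basicOpen]; exact ha⟩
      · show _ = P.presheaf.germ U x hx (P.presheaf.map _ _)
        rw [TopCat.Presheaf.germ_res_apply]
        have hW₂ : π x ∈ W₁ ⊓ W := ⟨hW₁, h hx⟩
        rw [← TopCat.Presheaf.germ_res_apply M.presheaf (homOfLE inf_le_left : W₁ ⊓ W ⟶ W₁) _ hW₂ m,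
          ← TopCat.Presheaf.germ_res_apply X.presheaf (homOfLE inf_le_right : W₁ ⊓ W ⟶ W) _ hW₂ a,
          ← QCohLib.germ_smul,
          ← TopCat.Presheaf.germ_res_apply M.presheaf (homOfLE inf_le_right : W₁ ⊓ W ⟶ W) _ hW₂ m₀]
          at hm₀
        obtain ⟨W₂, hxW₂, i₁, i₂, heq⟩ := M.presheaf.germ_eq _ hW₂ hW₂ _ _ hm₀
        obtain rfl : i₁ = i₂ := Subsingleton.elim _ _
        rw [Scheme.Modules.map_smul] at heq
        have h2 := congrArg (fun z => P.presheaf.germ (π ⁻¹ᵁ W₂) x hxW₂ (OmegaSh.pullSect π M W₂ z)) heq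
        simp only [OmegaSh.pullSect_smul, QCohLib.germ_smul] at h2
        rw [show i₁ = homOfLE i₁.le from Subsingleton.elim _ _] at h2
        simp only [OmegaSh.pullSect_map] at h2
        rw [TopCat.Presheaf.germ_res_apply, TopCat.Presheaf.germ_res_apply,
          TopCat.Presheaf.germ_res_apply, TopCat.Presheaf.germ_res_apply] at h2
        refine Eq.trans ?_ h2
        congr 1
        simp only [Scheme.Hom.appLE, CommRingCat.comp_apply]
        simp [TopCat.Presheaf.germ_res_apply]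
    | zero => exact ⟨1, 0, zero_mem _, hone, by
        rw [smul_zero]; exact (map_zero (P.presheaf.germ U x hx).hom).symm⟩
    | add γ δ _ _ hγ hδ =>
      obtain ⟨f, z, hz, hf, h1⟩ := hγ
      obtain ⟨f', z', hz', hf', h2⟩ := hδ
      refine ⟨f * f', f' • z + f • z', add_mem (L.smul_mem _ hz) (L.smul_mem _ hz'),
        by rw [X'.basicOpen_mul]; exact ⟨hf, hf'⟩, ?_⟩
      rw [map_add, QCohLib.germ_smul, QCohLib.germ_smul, ← h1, ← h2,
        smul_add, map_mul, smul_smul, smul_smul,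
        mul_comm (X'.presheaf.germ U x hx f') (X'.presheaf.germ U x hx f)]
    | smul r γ _ hγ =>
      obtain ⟨f, z, hz, hf, h1⟩ := hγ
      let _ := TopCat.Presheaf.algebra_section_stalk X'.presheaf ⟨x, hx⟩
      have := hU.isLocalization_stalk ⟨x, hx⟩
      obtain ⟨⟨b, c, hc⟩, hbc⟩ := IsLocalization.surj (hU.primeIdealOf ⟨x, hx⟩).asIdeal.primeCompl r
      have hc' : x ∈ X'.basicOpen c := (QCohLib.mem_basicOpen_iff_notMem_primeIdealOf hU hx c).2 hc
      refine ⟨f * c, b • z, L.smul_mem _ hz, by rw [X'.basicOpen_mul]; exact ⟨hf, hc'⟩, ?_⟩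
      rw [QCohLib.germ_smul, ← h1, smul_smul, smul_smul, map_mul]
      congr 1
      have hbc' : r * X'.presheaf.germ U x hx c = X'.presheaf.germ U x hx b := hbc
      rw [← hbc']
      ring
  rw [Submodule.eq_top_iff']
  intro z
  suffices htop : (⊤ : Ideal Γ(X', U)) ≤ L.colon {z} by
    simpa [Submodule.mem_colon_singleton] using htop (Submodule.mem_top (x := 1))
  by_contra hne
  obtain ⟨q, hq, hle⟩ := Ideal.exists_le_maximal (L.colon {z}) (fun e => hne e.ge)
  let p : PrimeSpectrum Γ(X', U) := ⟨q, hq.isPrime⟩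
  have hx : hU.fromSpec p ∈ U := by rw [← SetLike.mem_coe, ← hU.range_fromSpec]; exact ⟨p, rfl⟩
  obtain ⟨f, w, hw, hf, hfw⟩ := hgen _ hx (P.presheaf.germ U _ hx z)
  rw [← QCohLib.germ_smul] at hfw
  obtain ⟨c, hc, hcz⟩ := (QCohLib.germ_eq_zero_iff hU _ hx (f • z - w)).1 (by rw [map_sub, hfw, sub_self])
  rw [smul_sub, sub_eq_zero, smul_smul] at hcz
  have hmem : c * f ∈ q := hle (Submodule.mem_colon_singleton.2 (hcz ▸ L.smul_mem _ hw))
  have key : hU.primeIdealOf ⟨_, hx⟩ = p :=
    hU.fromSpec.isOpenEmbedding.injective (hU.fromSpec_primeIdealOf ⟨_, hx⟩)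
  have hf' := (QCohLib.mem_basicOpen_iff_notMem_primeIdealOf hU hx f).1 hf
  have hc' := (QCohLib.mem_basicOpen_iff_notMem_primeIdealOf hU hx c).1 hc
  rw [key] at hf' hc'
  exact (hq.isPrime.mem_or_mem hmem).elim hc' hf'

end Groth.Agent.ConormalSection
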