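import Groth.Agent.ConormalSection.Chart
import Groth.Agent.QCohLib.StalkRestrict
import Groth.Agent.QCohLib.Pullback

/-! The conormal sheaf of a section commutes with base change. -/

set_option autoImplicit false
universe u
open CategoryTheory Limits AlgebraicGeometry TopologicalSpace Opposite

namespace Groth.Agent.ConormalSection

variable {X U X' T : Scheme.{u}} {p : X ⟶ U} {e : U ⟶ X} {s : T ⟶ U} {π : X' ⟶ X} {q : X' ⟶ T}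
  {e' : T ⟶ X'}

/-- charts around every point of the section -/
theorem exists_chart (he : e ≫ p = 𝟙 U) (he'π : e' ≫ π = s ≫ e) (he'q : e' ≫ q = 𝟙 T) (t : T) :
    ∃ (W : U.Opens) (V : X.Opens) (T₀ : T.Opens), IsAffineOpen W ∧ IsAffineOpen V ∧ IsAffineOpen T₀ ∧
      V ≤ p ⁻¹ᵁ W ∧ e ⁻¹ᵁ V = W ∧ T₀ ≤ s ⁻¹ᵁ W ∧ e' t ∈ π ⁻¹ᵁ V ⊓ q ⁻¹ᵁ T₀ := by
  have hpe : ∀ z, p (e z) = z := fun z => by rw [← Scheme.Hom.comp_apply, he]; rfl
  set z := s t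
  obtain ⟨W₀, hW₀, hzW₀, -⟩ := exists_isAffineOpen_mem_and_subset (X := U) (x := z) (U := ⊤) trivial
  obtain ⟨V₀, hV₀, hzV₀, hV₀W⟩ := exists_isAffineOpen_mem_and_subset (X := X) (x := e z)
    (U := p ⁻¹ᵁ W₀) (show p (e z) ∈ W₀ by rwa [hpe])
  obtain ⟨a, haW, hza⟩ := hW₀.exists_basicOpen_le (V := e ⁻¹ᵁ V₀) ⟨z, hzV₀⟩ hzW₀
  set W := U.basicOpen a
  have hVeq : X.basicOpen (p.appLE W₀ V₀ hV₀W a) = V₀ ⊓ p ⁻¹ᵁ W := by
    rw [Scheme.basicOpen_appLE]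
  obtain ⟨T₀, hT₀, htT₀, hT₀W⟩ := exists_isAffineOpen_mem_and_subset (X := T) (x := t)
    (U := s ⁻¹ᵁ W) hza
  refine ⟨W, V₀ ⊓ p ⁻¹ᵁ W, T₀, hW₀.basicOpen a, hVeq ▸ hV₀.basicOpen _, hT₀, inf_le_right, ?_, hT₀W, ?_, ?_⟩
  · show e ⁻¹ᵁ V₀ ⊓ e ⁻¹ᵁ (p ⁻¹ᵁ W) = W
    rw [← Scheme.Hom.comp_preimage, he, Scheme.Hom.id_preimage]
    exact inf_eq_right.2 haW
  · have h : π (e' t) = e z := by rw [← Scheme.Hom.comp_apply, he'π]; rfl
    show π (e' t) ∈ V₀ ⊓ p ⁻¹ᵁ W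
    rw [h]
    exact ⟨hzV₀, show p (e z) ∈ W by rw [hpe]; exact hza⟩
  · show q (e' t) ∈ T₀
    rw [← Scheme.Hom.comp_apply, he'q]
    exact htT₀

theorem conormal_baseChange (he : e ≫ p = 𝟙 U) [QuasiCompact e] (hpb : IsPullback π q p s)
    (he'π : e' ≫ π = s ≫ e) (he'q : e' ≫ q = 𝟙 T) [QuasiCompact e'] :
    Nonempty (Omega.conormal e' ≅ (Scheme.Modules.pullback s).obj (Omega.conormal e)) := by
  obtain ⟨φ, hφ⟩ := exists_pullbackIdealHom e.ker e'.ker π (by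
    rw [Scheme.IdealSheafData.map_ker, he'π]
    exact Scheme.Hom.le_ker_comp s e)
  let O : X'.Opens := ⟨{x | ∃ (W : U.Opens) (V : X.Opens) (T₀ : T.Opens), IsAffineOpen W ∧
      IsAffineOpen V ∧ IsAffineOpen T₀ ∧ V ≤ p ⁻¹ᵁ W ∧ e ⁻¹ᵁ V = W ∧ T₀ ≤ s ⁻¹ᵁ W ∧
      x ∈ π ⁻¹ᵁ V ⊓ q ⁻¹ᵁ T₀}, isOpen_iff_forall_mem_open.2 fun x ⟨W, V, T₀, h⟩ =>
    ⟨_, fun y hy => ⟨W, V, T₀, h.1, h.2.1, h.2.2.1, h.2.2.2.1, h.2.2.2.2.1, h.2.2.2.2.2.1, hy⟩,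
      (π ⁻¹ᵁ V ⊓ q ⁻¹ᵁ T₀).2, h.2.2.2.2.2.2⟩⟩
  have : IsIso ((Scheme.Modules.restrictFunctor O.ι).map φ) := by
    rw [QCohLib.isIso_iff_stalk_bijective]
    intro y
    obtain ⟨W, V, T₀, hW, hV, hT₀, hVW, heV, hTW, hy⟩ := y.2
    have hb := stalk_bijective_of_chart he hpb he'π he'q φ hφ hW hV hT₀ hVW heV hTW _ hy
    refine ⟨fun a b hab => ?_, fun c => ?_⟩
    · refine (QCohLib.restrictStalkIso_bijective O.ι _ y).1 (hb.1 ?_)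
      show QCohLib.stalkHom φ (O.ι y) _ = QCohLib.stalkHom φ (O.ι y) _
      rw [← QCohLib.stalkHom_restrict, ← QCohLib.stalkHom_restrict, hab]
    · obtain ⟨b, hb⟩ := hb.2 ((QCohLib.restrictStalkIso O.ι _ y).hom c)
      obtain ⟨a, rfl⟩ := (QCohLib.restrictStalkIso_bijective O.ι _ y).2 b
      exact ⟨a, (QCohLib.restrictStalkIso_bijective O.ι _ y).1
        ((QCohLib.stalkHom_restrict O.ι φ y a).trans hb)⟩
  have : IsIso ((Scheme.Modules.pullback O.ι).map φ) :=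
    (NatIso.isIso_map_iff (Scheme.Modules.restrictFunctorIsoPullback O.ι) φ).1 this
  let e₀ : T ⟶ (O : Scheme) := IsOpenImmersion.lift O.ι e' (by
    rw [Scheme.Opens.range_ι]
    rintro _ ⟨t, rfl⟩
    exact exists_chart he he'π he'q t)
  have he₀ : e₀ ≫ O.ι = e' := IsOpenImmersion.lift_fac _ _ _
  have : IsIso ((Scheme.Modules.pullback e').map φ) :=
    (NatIso.isIso_map_iff (Scheme.Modules.pullbackComp e₀ O.ι ≪≫ Scheme.Modules.pullbackCongr he₀) φ).1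
      (inferInstanceAs (IsIso ((Scheme.Modules.pullback e₀).map ((Scheme.Modules.pullback O.ι).map φ))))
  exact ⟨(asIso ((Scheme.Modules.pullback e').map φ)).symm ≪≫
    (Scheme.Modules.pullbackComp e' π).app _ ≪≫ (Scheme.Modules.pullbackCongr he'π).app _ ≪≫
    ((Scheme.Modules.pullbackComp s e).app _).symm⟩

end Groth.Agent.ConormalSection
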