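import Groth.Agent.ConormalSection.OpenLocal
import Groth.Agent.S2157
import Groth.Agent.QCohLib.StalkRestrict
import Mathlib.RingTheory.Unramified.Locus

/-! The sheaf of differentials on affine charts. -/

set_option autoImplicit false
universe u
open CategoryTheory Limits AlgebraicGeometry TopologicalSpace Opposite

namespace Groth.Agent.ConormalSection

variable {X Y : Scheme.{u}} (f : X ⟶ Y) [QuasiSeparated f]

theorem omega_isQuasicoherent : (Omega.sheaf f).IsQuasicoherent :=
  have := isQuasicoherent_idealMod (pullback.diagonal f).ker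
  QCohLib.isQuasicoherent_pullback _ _

theorem omega_restrict {U V : Scheme.{u}} (g : U ⟶ V) (iU : U ⟶ X) (iV : V ⟶ Y) [IsOpenImmersion iU]
    [IsOpenImmersion iV] (h : iU ≫ f = g ≫ iV) :
    Nonempty ((Scheme.Modules.pullback iU).obj (Omega.sheaf f) ≅ Omega.sheaf g) := by
  let j := pullback.map g g f f iU iU iV h.symm h.symm
  have : IsOpenImmersion j := inferInstance
  have hjf : j ≫ pullback.fst f f = pullback.fst g g ≫ iU := pullback.lift_fst _ _ _
  have hjs : j ≫ pullback.snd f f = pullback.snd g g ≫ iU := pullback.lift_snd _ _ _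
  refine conormal_restrict j (pullback.diagonal f) (pullback.diagonal g) iU ?_
  have w : pullback.diagonal g ≫ j = iU ≫ pullback.diagonal f :=
    pullback.hom_ext (by simp [reassoc_of% hjf, reassoc_of% hjs, hjf, hjs]) (by simp [reassoc_of% hjf, reassoc_of% hjs, hjf, hjs])
  refine IsPullback.of_isLimit' ⟨w⟩ (PullbackCone.IsLimit.mk _ (fun c => c.fst ≫ pullback.fst g g)
    (fun c => ?_) (fun c => ?_) (fun c m h₁ _ => by rw [← h₁]; simp))
  · have hc₁ : c.fst ≫ pullback.fst g g ≫ iU = c.snd := by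
      have := congrArg (· ≫ pullback.fst f f) c.condition
      simpa [reassoc_of% hjf, reassoc_of% hjs, hjf, hjs] using this
    have hc₂ : c.fst ≫ pullback.snd g g ≫ iU = c.snd := by
      have := congrArg (· ≫ pullback.snd f f) c.condition
      simpa [reassoc_of% hjf, reassoc_of% hjs, hjf, hjs] using this
    refine pullback.hom_ext (by simp) ?_
    rw [← cancel_mono iU]
    simp [hc₁, hc₂]
  · have := congrArg (· ≫ pullback.fst f f) c.condition
    simpa [reassoc_of% hjf, reassoc_of% hjs, hjf, hjs] using this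

theorem subsingleton_stalk_congr {Z : Scheme.{u}} {M N : Z.Modules} (e : M ≅ N) (z : Z) :
    Subsingleton (M.presheaf.stalk z) ↔ Subsingleton (N.presheaf.stalk z) :=
  ((((Scheme.Modules.toPresheaf Z) ⋙ TopCat.Presheaf.stalkFunctor _ z).mapIso e).addCommGroupIsoToAddEquiv).toEquiv.subsingleton_congr

/-- the stalk of Ω vanishes iff the affine chart is unramified there -/
theorem subsingleton_stalk_omega_iff {U : X.Opens} {V : Y.Opens} (hU : IsAffineOpen U) (hV : IsAffineOpen V)
    (h : U ≤ f ⁻¹ᵁ V) (q : Spec Γ(X, U)) :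
    letI := (f.appLE V U h).hom.toAlgebra
    Subsingleton ((Omega.sheaf f).presheaf.stalk (hU.fromSpec q)) ↔
      Algebra.IsUnramifiedAt Γ(Y, V) q.asIdeal := by
  let _ := (f.appLE V U h).hom.toAlgebra
  obtain ⟨a⟩ := omega_restrict f (Spec.map (f.appLE V U h)) hU.fromSpec hV.fromSpec
    (IsAffineOpen.SpecMap_appLE_fromSpec f hV hU h).symm
  obtain ⟨b⟩ := Groth.Agent.S2157.result Γ(Y, V) Γ(X, U)
  let M := ModuleCat.of Γ(X, U) (Ω[Γ(X, U)⁄Γ(Y, V)])
  let e : (Scheme.Modules.restrictFunctor hU.fromSpec).obj (Omega.sheaf f) ≅ tilde M :=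
    (Scheme.Modules.restrictFunctorIsoPullback hU.fromSpec).app _ ≪≫ a ≪≫ b
  have h1 := subsingleton_stalk_congr e q
  rw [← QCohLib.subsingleton_restrict_stalk_iff hU.fromSpec (Omega.sheaf f) q, h1]
  have : IsLocalizedModule q.asIdeal.primeCompl (tilde.toStalk M q).hom :=
    inferInstanceAs (IsLocalizedModule q.asIdeal.primeCompl (StructureSheaf.toStalkₗ _ M q))
  have h2 : Subsingleton ((tilde M).presheaf.stalk q) ↔
      Subsingleton (LocalizedModule q.asIdeal.primeCompl (Ω[Γ(X, U)⁄Γ(Y, V)])) :=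
    ((IsLocalizedModule.iso q.asIdeal.primeCompl (tilde.toStalk M q).hom).toEquiv.subsingleton_congr).symm
  rw [h2, ← Module.notMem_support_iff (p := q)]
  exact (Set.ext_iff.1 (Algebra.unramifiedLocus_eq_compl_support (R := Γ(Y, V)) (A := Γ(X, U))) q).symm

theorem isZero_omega_iff : IsZero (Omega.sheaf f) ↔ FormallyUnramified f := by
  constructor
  · intro h0
    refine ⟨fun {V} hV {U} hU h => ?_⟩
    let _ := (f.appLE V U h).hom.toAlgebra
    exact Algebra.formallyUnramified_iff_forall.2 fun q =>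
      (subsingleton_stalk_omega_iff f hU hV h q).1 (QCohLib.subsingleton_stalk_of_isZero h0 _)
  · intro hf
    refine QCohLib.isZero_of_subsingleton_stalk fun x => ?_
    obtain ⟨V, hV, hxV, -⟩ := exists_isAffineOpen_mem_and_subset (X := Y) (x := f x) (U := ⊤) trivial
    obtain ⟨U, hU, hxU, h⟩ := exists_isAffineOpen_mem_and_subset (X := X) (x := x) (U := f ⁻¹ᵁ V) hxV
    replace h : U ≤ f ⁻¹ᵁ V := h
    let _ := (f.appLE V U h).hom.toAlgebra
    have := Algebra.formallyUnramified_iff_forall.1 (f.formallyUnramified_appLE hV hU h)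
      (hU.primeIdealOf ⟨x, hxU⟩)
    have := (subsingleton_stalk_omega_iff f hU hV h _).2 this
    rwa [hU.fromSpec_primeIdealOf ⟨x, hxU⟩] at this

theorem subsingleton_stalk_omega_iff_stalkMap (x : X) :
    Subsingleton ((Omega.sheaf f).presheaf.stalk x) ↔ (f.stalkMap x).hom.FormallyUnramified := by
  obtain ⟨V, hV, hxV, -⟩ := exists_isAffineOpen_mem_and_subset (X := Y) (x := f x) (U := ⊤) trivial
  obtain ⟨U, hU, hxU, h⟩ := exists_isAffineOpen_mem_and_subset (X := X) (x := x) (U := f ⁻¹ᵁ V) hxV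
  replace h : U ≤ f ⁻¹ᵁ V := h
  let _ := (f.appLE V U h).hom.toAlgebra
  have key := subsingleton_stalk_omega_iff f hU hV h (hU.primeIdealOf ⟨x, hxU⟩)
  rw [hU.fromSpec_primeIdealOf ⟨x, hxU⟩] at key
  rw [key]
  let _ := TopCat.Presheaf.algebra_section_stalk X.presheaf ⟨x, hxU⟩
  let _ := TopCat.Presheaf.algebra_section_stalk Y.presheaf ⟨f x, hxV⟩
  have := hU.isLocalization_stalk ⟨x, hxU⟩
  have := hV.isLocalization_stalk ⟨f x, hxV⟩
  let _ : Algebra (Y.presheaf.stalk (f x)) (X.presheaf.stalk x) := (f.stalkMap x).hom.toAlgebra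
  let _ : Algebra Γ(Y, V) (X.presheaf.stalk x) :=
    (f.appLE V U h ≫ X.presheaf.germ U x hxU).hom.toAlgebra
  have : IsScalarTower Γ(Y, V) Γ(X, U) (X.presheaf.stalk x) := IsScalarTower.of_algebraMap_eq' rfl
  have : IsScalarTower Γ(Y, V) (Y.presheaf.stalk (f x)) (X.presheaf.stalk x) := by
    refine IsScalarTower.of_algebraMap_eq' (congrArg CommRingCat.Hom.hom ?_)
    show _ = Y.presheaf.germ V (f x) hxV ≫ f.stalkMap x
    rw [Scheme.Hom.germ_stalkMap, Scheme.Hom.appLE, Category.assoc, TopCat.Presheaf.germ_res]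
  let q := (hU.primeIdealOf ⟨x, hxU⟩).asIdeal
  have : IsLocalization.AtPrime (X.presheaf.stalk x) q := hU.isLocalization_stalk ⟨x, hxU⟩
  let eq : Localization.AtPrime q ≃ₐ[Γ(X, U)] X.presheaf.stalk x :=
    IsLocalization.algEquiv q.primeCompl _ _
  have : Algebra.FormallyUnramified Γ(Y, V) (Y.presheaf.stalk (f x)) :=
    Algebra.FormallyUnramified.of_isLocalization (hV.primeIdealOf ⟨f x, hxV⟩).asIdeal.primeCompl
  trans Algebra.FormallyUnramified Γ(Y, V) (X.presheaf.stalk x)
  · exact ⟨fun h => Algebra.FormallyUnramified.of_equiv (eq.restrictScalars Γ(Y, V)),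
      fun h => Algebra.FormallyUnramified.of_equiv (eq.restrictScalars Γ(Y, V)).symm⟩
  exact ⟨fun _ => Algebra.FormallyUnramified.of_restrictScalars Γ(Y, V) _ _,
    fun h => @Algebra.FormallyUnramified.comp Γ(Y, V) _ (Y.presheaf.stalk (f x)) _ _
      (X.presheaf.stalk x) _ _ _ _ _ h⟩

end Groth.Agent.ConormalSection
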