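import Groth.Agent.ConormalSection.ToSect
import Groth.Agent.QCohLib.Basic

/-! `d : O_X → Omega` is a universal derivation. -/

set_option autoImplicit false
universe u
open CategoryTheory Limits AlgebraicGeometry TopologicalSpace Opposite

namespace Groth.Agent.ConormalSection

variable {X Y : Scheme.{u}} (f : X ⟶ Y)

/-- affine opens of `X` lying over an affine open of `Y` -/
abbrev AffPairs : Type u := {U : X.Opens // IsAffineOpen U ∧ ∃ V : Y.Opens, IsAffineOpen V ∧ U ≤ f ⁻¹ᵁ V}

theorem isBasis_affPairs : Opens.IsBasis (Set.range fun i : AffPairs f => i.1) := by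
  rw [Opens.isBasis_iff_nbhd]
  intro O x hx
  obtain ⟨V, hV, hxV, -⟩ := exists_isAffineOpen_mem_and_subset (X := Y) (x := f x) (U := ⊤) trivial
  obtain ⟨U, hU, hxU, hUO⟩ := exists_isAffineOpen_mem_and_subset (X := X) (x := x) (U := O ⊓ f ⁻¹ᵁ V) ⟨hx, hxV⟩
  exact ⟨U, ⟨⟨U, hU, V, hV, fun z hz => (hUO hz).2⟩, rfl⟩, hxU, fun z hz => (hUO hz).1⟩

theorem hom_ext_affPairs {M F : X.Modules} {α β : M ⟶ F}
    (h : ∀ (i : AffPairs f) (z : Γ(M, i.1)), α.app i.1 z = β.app i.1 z) : α = β := by
  refine Scheme.Modules.hom_ext _ _ fun O => ?_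
  ext z
  refine QCohLib.section_ext _ _ fun x hx => ?_
  obtain ⟨_, ⟨i, rfl⟩, hxi, hle⟩ := Opens.isBasis_iff_nbhd.1 (isBasis_affPairs f) hx
  rw [← TopCat.Presheaf.germ_res_apply F.presheaf (homOfLE hle) x hxi,
    ← TopCat.Presheaf.germ_res_apply F.presheaf (homOfLE hle) x hxi,
    ← QCohLib.app_map, ← QCohLib.app_map, h]

variable [QuasiSeparated f]

theorem span_dSect (i : AffPairs f) :
    Submodule.span Γ(X, i.1) (Set.range (OmegaSh.dSect f i.1)) = ⊤ := by
  obtain ⟨U, hU, V, hV, h⟩ := i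
  let _ := (f.appLE V U h).hom.toAlgebra
  rw [Submodule.eq_top_iff']
  intro z
  obtain ⟨w, rfl⟩ := (bijective_toSect f hU hV h).2 z
  change Ω[Γ(X, U)⁄Γ(Y, V)] at w
  have hw : w ∈ Submodule.span Γ(X, U) (Set.range (KaehlerDifferential.D Γ(Y, V) Γ(X, U))) := by
    rw [KaehlerDifferential.span_range_derivation]; trivial
  induction hw using Submodule.span_induction with
  | mem y hy =>
    obtain ⟨b, rfl⟩ := hy
    exact Submodule.subset_span ⟨b, (OmAff.toSect_d f V U h b).symm⟩
  | zero => rw [show OmAff.toSect f V U h (0 : Ω[Γ(X, U)⁄Γ(Y, V)]) = 0 from map_zero (OmAff.toSect f V U h).hom]; exact zero_mem _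
  | add y v _ _ hy hv =>
    rw [show OmAff.toSect f V U h (y + v) = OmAff.toSect f V U h y + OmAff.toSect f V U h v from
      map_add (OmAff.toSect f V U h).hom y v]
    exact add_mem hy hv
  | smul a y _ hy =>
    rw [show OmAff.toSect f V U h (a • y) = a • OmAff.toSect f V U h y from
      map_smul (OmAff.toSect f V U h).hom a y]
    exact Submodule.smul_mem _ _ hy

theorem hom_omega_ext {F : X.Modules} {α β : Omega.sheaf f ⟶ F}
    (h : ∀ (i : AffPairs f) (s : Γ(X, i.1)),
      α.app i.1 (OmegaSh.dSect f i.1 s) = β.app i.1 (OmegaSh.dSect f i.1 s)) : α = β := by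
  refine hom_ext_affPairs f fun i z => ?_
  have hz : z ∈ Submodule.span Γ(X, i.1) (Set.range (OmegaSh.dSect f i.1)) := by
    rw [span_dSect]; trivial
  induction hz using Submodule.span_induction with
  | mem y hy => obtain ⟨s, rfl⟩ := hy; exact h i s
  | zero => rw [map_zero, map_zero]
  | add y v _ _ hy hv => rw [map_add, map_add, hy, hv]
  | smul a y _ hy => rw [Scheme.Modules.Hom.app_smul, Scheme.Modules.Hom.app_smul, hy]

theorem dSect_res {U V : X.Opens} (e : V ≤ U) (s : Γ(X, U)) :
    (Omega.sheaf f).presheaf.map (homOfLE e).op (OmegaSh.dSect f U s) =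
      OmegaSh.dSect f V (X.presheaf.map (homOfLE e).op s) :=
  (OmegaSh.dSect_map f e s).symm

theorem isUniversal_dOmega : OmegaSh.IsUniversal (OmegaSh.dOmega f) := by
  intro F D
  -- the local maps
  have hloc : ∀ i : AffPairs f, ∃ l : Γ(Omega.sheaf f, i.1) →ₗ[Γ(X, i.1)] Γ(F, i.1),
      ∀ s, l (OmegaSh.dSect f i.1 s) = D.app i.1 s := by
    rintro ⟨U, hU, V, hV, h⟩
    let D' : (OmAff.sectMod F U).Derivation (f.appLE V U h) :=
      ModuleCat.Derivation.mk (fun b => D.app U b) (fun a b => map_add (D.app U) a b)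
        (fun a b => D.d_mul (X := op U) a b) (fun c => by
          show D.d (X := op U) (X.presheaf.map (homOfLE h).op (f.app V c)) = 0
          rw [D.d_map, show D.d (X := op (f ⁻¹ᵁ V)) (f.app V c) = 0 from D.d_app (X := op V) c]
          exact map_zero (F.val.map (homOfLE h).op).hom)
    let e := LinearEquiv.ofBijective (OmAff.toSect f V U h).hom (bijective_toSect f hU hV h)
    refine ⟨D'.desc.hom ∘ₗ e.symm.toLinearMap, fun s => ?_⟩
    show D'.desc.hom (e.symm (OmegaSh.dSect f U s)) = _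
    rw [show OmegaSh.dSect f U s = e (CommRingCat.KaehlerDifferential.d s) from
      (OmAff.toSect_d f V U h s).symm, LinearEquiv.symm_apply_apply]
    exact D'.desc_d s
  choose l hl using hloc
  have hnat : ∀ (i j : AffPairs f) (hji : j.1 ≤ i.1) (z : Γ(Omega.sheaf f, i.1)),
      l j ((Omega.sheaf f).presheaf.map (homOfLE hji).op z) = F.presheaf.map (homOfLE hji).op (l i z) := by
    intro i j hji z
    have hz : z ∈ Submodule.span Γ(X, i.1) (Set.range (OmegaSh.dSect f i.1)) := by
      rw [span_dSect]; trivial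
    induction hz using Submodule.span_induction with
    | mem y hy =>
      obtain ⟨s, rfl⟩ := hy
      rw [hl, dSect_res, hl]
      exact D.d_map (homOfLE hji).op s
    | zero => rw [map_zero, map_zero, map_zero, map_zero]
    | add y v _ _ hy hv => rw [map_add, map_add, map_add, map_add, hy, hv]
    | smul a y _ hy =>
      rw [Scheme.Modules.map_smul, map_smul, map_smul, Scheme.Modules.map_smul, hy]
  let B : AffPairs f → X.Opens := fun i => i.1
  let φ₀ : (inducedFunctor B).op ⋙ (Omega.sheaf f).presheaf ⟶ (inducedFunctor B).op ⋙ F.presheaf :=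
    { app := fun i => AddCommGrpCat.ofHom (l i.unop).toAddMonoidHom
      naturality := fun i j g => by
        ext z
        exact hnat i.unop j.unop g.unop.hom.le z }
  let Fs : TopCat.Sheaf Ab X := ⟨F.presheaf, F.isSheaf⟩
  let φ : (Omega.sheaf f).presheaf ⟶ F.presheaf :=
    TopCat.Sheaf.restrictHomEquivHom (Omega.sheaf f).presheaf Fs (isBasis_affPairs f) φ₀
  have hφ : ∀ (i : AffPairs f) z, φ.app (op i.1) z = l i z := fun i z =>
    congr(($(TopCat.Sheaf.extend_hom_app (Omega.sheaf f).presheaf Fs (isBasis_affPairs f) φ₀ i)) z)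
  have hlin : ∀ (O : X.Opens) (r : Γ(X, O)) (z : Γ(Omega.sheaf f, O)),
      φ.app (op O) (r • z) = r • (show Γ(F, O) from φ.app (op O) z) := by
    intro O r z
    refine QCohLib.section_ext _ _ fun x hx => ?_
    obtain ⟨_, ⟨i, rfl⟩, hxi, hle⟩ := Opens.isBasis_iff_nbhd.1 (isBasis_affPairs f) hx
    rw [← TopCat.Presheaf.germ_res_apply F.presheaf (homOfLE hle) x hxi,
      ← TopCat.Presheaf.germ_res_apply F.presheaf (homOfLE hle) x hxi]
    congr 1
    have n : ∀ w, F.presheaf.map (homOfLE hle).op (φ.app (op O) w) =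
        φ.app (op i.1) ((Omega.sheaf f).presheaf.map (homOfLE hle).op w) := fun w =>
      (congr(($(φ.naturality (homOfLE hle).op)) w)).symm
    rw [n, Scheme.Modules.map_smul, Scheme.Modules.map_smul, n, hφ, hφ, map_smul]
  let α : Omega.sheaf f ⟶ F := ⟨PresheafOfModules.homMk φ fun O => hlin O.unop⟩
  have hα : ∀ (i : AffPairs f) z, α.app i.1 z = l i z := hφ
  refine ⟨α, ?_, fun β hβ => hom_omega_ext f fun i s => ?_⟩
  · refine PresheafOfModules.Derivation.ext ?_
    ext O s
    show α.app O.unop (OmegaSh.dSect f O.unop s) = D.app O.unop s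
    refine QCohLib.section_ext _ _ fun x hx => ?_
    obtain ⟨_, ⟨i, rfl⟩, hxi, hle⟩ := Opens.isBasis_iff_nbhd.1 (isBasis_affPairs f) hx
    rw [← TopCat.Presheaf.germ_res_apply F.presheaf (homOfLE hle) x hxi,
      ← TopCat.Presheaf.germ_res_apply F.presheaf (homOfLE hle) x hxi,
      ← QCohLib.app_map, dSect_res, hα, hl]
    congr 1
    exact D.d_map (homOfLE hle).op s
  · rw [hα, hl]
    exact PresheafOfModules.Derivation.congr_d hβ (X := op i.1) s

end Groth.Agent.ConormalSection
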