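import Groth.Agent.ConormalSection.SpanPull
import Groth.Agent.QCohLib.Affine

/-! Test morphisms out of a pullback. -/

set_option autoImplicit false
universe u
open CategoryTheory Limits AlgebraicGeometry TopologicalSpace Opposite

namespace Groth.Agent.ConormalSection

variable {X X' : Scheme.{u}} (π : X' ⟶ X) (M : X.Modules)

theorem exists_testHom [M.IsQuasicoherent] {W : X.Opens} {U : X'.Opens} (hW : IsAffineOpen W)
    (hU : IsAffineOpen U) (h : U ≤ π ⁻¹ᵁ W) (T : ModuleCat.{u} Γ(X', U)) (l : Γ(M, W) →+ T)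
    (hl : ∀ b m, l (b • m) = π.appLE W U h b • l m) :
    ∃ (N : X'.Modules) (ψ : (Scheme.Modules.pullback π).obj M ⟶ N) (r : T → Γ(N, U)),
      Function.Injective r ∧ (∀ (a : Γ(X', U)) t, r (a • t) = a • r t) ∧
        (∀ s t, r (s + t) = r s + r t) ∧
        ∀ m, ψ.app U (pullRes π M h m) = r (l m) := by
  let φ := π.appLE W U h
  let Q := tilde T
  let M' := (Scheme.Modules.restrictFunctor hW.fromSpec).obj M
  let Q' := (Scheme.Modules.pushforward (Spec.map φ)).obj Q
  have : M'.IsQuasicoherent :=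
    have := QCohLib.isQuasicoherent_pullback hW.fromSpec M
    QCohLib.isQuasicoherent_of_iso ((Scheme.Modules.restrictFunctorIsoPullback hW.fromSpec).app M).symm
  have hWeq : hW.fromSpec ''ᵁ (⊤ : (Spec Γ(X, W)).Opens) = W := by
    rw [Scheme.Hom.image_top_eq_opensRange, hW.opensRange_fromSpec]
  let resW : Γ(M, hW.fromSpec ''ᵁ ⊤) →+ Γ(M, W) := (M.presheaf.map (eqToHom hWeq.symm).op).hom
  have hbsm : ∀ (b : Γ(X, W)) (z : Γ(M, hW.fromSpec ''ᵁ ⊤)),
      resW ((hW.fromSpec.appIso ⊤).inv ((Scheme.ΓSpecIso Γ(X, W)).inv b) • z) = b • resW z := by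
    intro b z
    show M.presheaf.map (homOfLE hWeq.ge).op _ = _
    rw [Scheme.Modules.map_smul]
    congr 1
    have hb : (hW.fromSpec.appIso ⊤).inv ((Scheme.ΓSpecIso Γ(X, W)).inv b) =
        X.presheaf.map (homOfLE hWeq.le).op b := by
      apply (hW.fromSpec.appIso ⊤).commRingCatIsoToRingEquiv.injective
      show ((hW.fromSpec.appIso ⊤).inv ≫ (hW.fromSpec.appIso ⊤).hom) _ =
        (X.presheaf.map (homOfLE hWeq.le).op ≫ (hW.fromSpec.appIso ⊤).hom) b
      rw [Iso.inv_hom_id, CommRingCat.id_apply, Scheme.Hom.appIso_hom', Scheme.Hom.map_appLE,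
        Scheme.Hom.appLE, hW.fromSpec_app_self, Category.assoc, ← Functor.map_comp]
      rw [CommRingCat.comp_apply]
      exact (ConcreteCategory.congr_hom ((Spec Γ(X, W)).presheaf.map_id _) _).symm
    rw [hb, ← CommRingCat.comp_apply, ← Functor.map_comp]
    exact ConcreteCategory.congr_hom (X.presheaf.map_id _) b
  let tt : T → Γ(Q, (⊤ : (Spec Γ(X', U)).Opens)) := fun t => (tilde.isoTop T).hom t
  have htt : ∀ (a : Γ(X', U)) t, tt (a • t) = (Scheme.ΓSpecIso Γ(X', U)).inv a • tt t := fun a t =>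
    (map_smul (tilde.isoTop T).hom.hom a t).trans rfl
  let l' : QCohLib.ΓR M' ⟶ QCohLib.ΓR Q' :=
    ModuleCat.ofHom (X := QCohLib.ΓR M') (Y := QCohLib.ΓR Q')
      { toFun := fun z => (tt (l (resW z)) : Γ(Q, ⊤))
        map_add' := fun z w => by
          show tt (l (resW (z + w))) = _
          rw [show resW (z + w) = resW z + resW w from map_add resW z w, map_add]
          exact map_add (tilde.isoTop T).hom.hom _ _
        map_smul' := fun b z => by
          show tt (l (resW ((hW.fromSpec.appIso ⊤).inv ((Scheme.ΓSpecIso Γ(X, W)).inv b) •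
            (show Γ(M, hW.fromSpec ''ᵁ ⊤) from z)))) = _
          rw [hbsm, hl, htt]
          show _ = (show Γ(Spec Γ(X', U), ⊤) from (Spec.map φ).app ⊤ ((Scheme.ΓSpecIso Γ(X, W)).inv b)) • tt (l (resW z))
          congr 1
          exact congr(($(Scheme.ΓSpecIso_inv_naturality φ)) b) }
  let c₀ : M' ⟶ Q' := (QCohLib.counitIso M').inv ≫ ((tilde.adjunction).homEquiv _ _).symm l'
  have hc₀ : ∀ z : Γ(M', ⊤), c₀.app ⊤ z = tt (l (resW z)) := by
    have e1 : (tilde.adjunction).homEquiv _ _ ((QCohLib.counitIso M').hom ≫ c₀) = l' := by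
      show (tilde.adjunction).homEquiv _ _ ((QCohLib.counitIso M').hom ≫ _ ≫ _) = l'
      rw [Iso.hom_inv_id_assoc, Equiv.apply_symm_apply]
    rw [Adjunction.homEquiv_naturality_right, show (QCohLib.counitIso M').hom =
      tilde.adjunction.counit.app M' from rfl, Adjunction.homEquiv_unit,
      Adjunction.right_triangle_components] at e1
    erw [Category.id_comp] at e1
    intro z
    exact congr(($e1) z)
  let c₁ : M ⟶ (Scheme.Modules.pushforward hW.fromSpec).obj Q' :=
    (Scheme.Modules.restrictAdjunction hW.fromSpec).homEquiv _ _ c₀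
  have heq : Spec.map φ ≫ hW.fromSpec = hU.fromSpec ≫ π :=
    IsAffineOpen.SpecMap_appLE_fromSpec π hW hU h
  let N := (Scheme.Modules.pushforward hU.fromSpec).obj Q
  let σ : (Scheme.Modules.pushforward hW.fromSpec).obj Q' ⟶ (Scheme.Modules.pushforward π).obj N :=
    (Scheme.Modules.pushforwardComp (Spec.map φ) hW.fromSpec).hom.app Q ≫
      (Scheme.Modules.pushforwardCongr heq).hom.app Q ≫
      (Scheme.Modules.pushforwardComp hU.fromSpec π).inv.app Q
  let ψ := ((Scheme.Modules.pullbackPushforwardAdjunction π).homEquiv _ _).symm (c₁ ≫ σ)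
  let r : T → Γ(N, U) := fun t => Q.presheaf.map (eqToHom hU.fromSpec_preimage_self).op (tt t)
  refine ⟨N, ψ, r, ?_, ?_, ?_, fun m => ?_⟩
  · exact (ConcreteCategory.bijective_of_isIso (Q.presheaf.map (eqToHom hU.fromSpec_preimage_self).op)).1.comp
      (ConcreteCategory.bijective_of_isIso (tilde.isoTop T).hom).1
  · intro a t
    show Q.presheaf.map _ (tt (a • t)) = _
    rw [htt, Scheme.Modules.map_smul]
    show _ = hU.fromSpec.app U a • (Q.presheaf.map (eqToHom hU.fromSpec_preimage_self).op (tt t))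
    congr 1
    rw [hU.fromSpec_app_self]
    rfl
  · intro s t
    show Q.presheaf.map _ (tt (s + t)) = _
    rw [show tt (s + t) = tt s + tt t from map_add (tilde.isoTop T).hom.hom _ _, map_add]
    rfl
  · have hψ : ψ.app (π ⁻¹ᵁ W) (OmegaSh.pullSect π M W m) = (c₁ ≫ σ).app W m :=
      congr(($(Equiv.apply_symm_apply
        ((Scheme.Modules.pullbackPushforwardAdjunction π).homEquiv M N) (c₁ ≫ σ))).app W m)
    rw [pullRes, QCohLib.app_map, hψ]
    have hz : resW (M.presheaf.map (eqToHom hWeq).op m) = m := by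
      show (M.presheaf.map _ ≫ M.presheaf.map _) m = m
      rw [← Functor.map_comp, ← op_comp, eqToHom_trans, eqToHom_refl, op_id, M.presheaf.map_id]
      rfl
    have hc := hc₀ (M.presheaf.map (eqToHom hWeq).op m)
    rw [hz] at hc
    have hpre : hW.fromSpec ⁻¹ᵁ W = ⊤ := hW.fromSpec_preimage_self
    have e1 : c₁.app W m = c₀.app (hW.fromSpec ⁻¹ᵁ W)
        (M.presheaf.map (homOfLE (hW.fromSpec.image_preimage_le W)).op m) :=
      congr(($((Scheme.Modules.restrictAdjunction hW.fromSpec).homEquiv_unit (f := c₀))).app W m)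
    have e2 : c₁.app W m = Q'.presheaf.map (homOfLE hpre.le).op
        (c₀.app ⊤ (M.presheaf.map (eqToHom hWeq).op m)) := by
      rw [e1, ← QCohLib.app_map]
      congr 1
      show _ = M.presheaf.map _ (M.presheaf.map _ m)
      rw [← ConcreteCategory.comp_apply, ← Functor.map_comp]
      rfl
    show N.presheaf.map _ (σ.app W (c₁.app W m)) = _
    rw [e2, hc]
    show Q.presheaf.map _ (Q.presheaf.map _ (Q.presheaf.map _ (tt (l m)))) = Q.presheaf.map _ (tt (l m))
    rw [← ConcreteCategory.comp_apply, ← Functor.map_comp, ← ConcreteCategory.comp_apply,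
      ← Functor.map_comp]
    rfl

end Groth.Agent.ConormalSection
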