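import Groth.Agent.ModGroth.FlatStalkConv
import Groth.Agent.QCohLib.Basic
import Groth.Prelude.Def_Omega3

/-! The stalks of a pullback are generated by pulled back sections. -/

set_option autoImplicit false
universe u
open CategoryTheory Limits AlgebraicGeometry TopologicalSpace Opposite

namespace Groth.Agent.ConormalSection

variable {X X' : Scheme.{u}} (f : X' ⟶ X) (M : X.Modules) (x : X')

/-- germs of pulled back sections -/
def pullGerms : Set (((Scheme.Modules.pullback f).obj M).presheaf.stalk x) :=
  {g | ∃ (W : X.Opens) (hx : x ∈ f ⁻¹ᵁ W) (m : Γ(M, W)),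
    ((Scheme.Modules.pullback f).obj M).presheaf.germ (f ⁻¹ᵁ W) x hx (OmegaSh.pullSect f M W m) = g}

theorem span_pullGerms : Submodule.span (X'.presheaf.stalk x) (pullGerms f M x) = ⊤ := by
  classical
  let P := (Scheme.Modules.pullback f).obj M
  let S := Submodule.span (X'.presheaf.stalk x) (pullGerms f M x)
  let Q : ModuleCat.{u} (ModGroth.Stalk.stR X'.presheaf x) := ModuleCat.of _ (P.presheaf.stalk x ⧸ S)
  let K : X'.Modules := ⟨ModGroth.Stalk.sky x Q, ModGroth.Stalk.sky_isSheaf x Q⟩
  let q : P ⟶ K := ⟨{
    app := fun U =>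
      letI : Module (X'.ringCatSheaf.obj.obj U) (ModGroth.Stalk.SkyObj x Q U) :=
        ModGroth.Stalk.skyModule (R := X'.presheaf) x Q U
      ModuleCat.ofHom (X := P.val.obj U) (Y := ModGroth.Stalk.SkyObj x Q U)
      { toFun := fun s h => S.mkQ (P.presheaf.germ U.unop x h.down s)
        map_add' := fun s t => funext fun h =>
          (congrArg S.mkQ (map_add (P.presheaf.germ U.unop x h.down).hom s t)).trans (map_add _ _ _)
        map_smul' := fun r s => funext fun h =>
          (congrArg S.mkQ (QCohLib.germ_smul (M := P) U.unop x h.down r s)).trans (map_smul S.mkQ _ _) }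
    naturality := fun {U V} g => by
      ext s
      funext h
      exact congrArg S.mkQ (TopCat.Presheaf.germ_res_apply P.presheaf g.unop x h.down s) }⟩
  have h0 : (Scheme.Modules.pullbackPushforwardAdjunction f).homEquiv _ _ q = 0 := by
    rw [Adjunction.homEquiv_unit]
    refine Scheme.Modules.hom_ext _ _ fun W => ?_
    ext m
    funext h
    exact (Submodule.Quotient.mk_eq_zero S).2 (Submodule.subset_span ⟨W, h.down, m, rfl⟩)
  have hq : q = 0 :=
    ((Scheme.Modules.pullbackPushforwardAdjunction f).homEquiv _ _).injective (h0.trans (by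
      rw [Adjunction.homEquiv_unit, Functor.map_zero, comp_zero]))
  rw [Submodule.eq_top_iff']
  intro g
  obtain ⟨U, hx, s, rfl⟩ := P.presheaf.exists_germ_eq g
  have := congrFun (congrArg (fun φ : P ⟶ K => φ.app U s) hq) ⟨hx⟩
  exact (Submodule.Quotient.mk_eq_zero S).1 (this.trans rfl)

end Groth.Agent.ConormalSection
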