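import Groth.Agent.ConormalSection.Ring
import Groth.Agent.ConormalSection.Ideal
import Groth.Agent.ConormalSection.PullbackStalk
import Mathlib.AlgebraicGeometry.Morphisms.Flat

/-! The ideal of a section commutes with base change, on a chart. -/

set_option autoImplicit false
universe u
open CategoryTheory Limits AlgebraicGeometry TopologicalSpace Opposite

namespace Groth.Agent.ConormalSection

theorem ker_appLE_of_preimage_eq {X Y : Scheme.{u}} (f : X ⟶ Y) [QuasiCompact f] (U : Y.affineOpens)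
    (V : X.Opens) (h : f ⁻¹ᵁ U.1 = V) :
    RingHom.ker (f.appLE U.1 V h.ge).hom = f.ker.ideal U := by
  subst h
  rw [f.ker_apply, Scheme.Hom.appLE_eq_app]

variable {X U X' T : Scheme.{u}} {p : X ⟶ U} {e : U ⟶ X} {s : T ⟶ U} {π : X' ⟶ X} {q : X' ⟶ T}
  {e' : T ⟶ X'}

theorem stalk_bijective_of_chart (he : e ≫ p = 𝟙 U) [QuasiCompact e] (hpb : IsPullback π q p s)
    (he'π : e' ≫ π = s ≫ e) (he'q : e' ≫ q = 𝟙 T) [QuasiCompact e']
    (φ : (Scheme.Modules.pullback π).obj (ClSub.idealMod e.ker) ⟶ ClSub.idealMod e'.ker)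
    (hφ : ∀ (W : X.Opens) (m : Γ(ClSub.idealMod e.ker, W)),
        OmegaSh.idealSect e'.ker (π ⁻¹ᵁ W) (φ.app (π ⁻¹ᵁ W) (OmegaSh.pullSect π _ W m)) =
          π.app W (OmegaSh.idealSect e.ker W m))
    {W : U.Opens} {V : X.Opens} {T₀ : T.Opens} (hW : IsAffineOpen W) (hV : IsAffineOpen V)
    (hT₀ : IsAffineOpen T₀) (hVW : V ≤ p ⁻¹ᵁ W) (heV : e ⁻¹ᵁ V = W) (hTW : T₀ ≤ s ⁻¹ᵁ W)
    (x : X') (hx : x ∈ π ⁻¹ᵁ V ⊓ q ⁻¹ᵁ T₀) :
    Function.Bijective (QCohLib.stalkHom φ x) := by
  classical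
  set V' := π ⁻¹ᵁ V ⊓ q ⁻¹ᵁ T₀ with hV'def
  have hV' : IsAffineOpen V' := by
    have : IsAffine W := hW
    have : IsAffine V := hV
    have : IsAffine T₀ := hT₀
    exact .of_isIso (Scheme.Hom.isPullback_resLE hpb hTW hVW hV'def).isoPullback.hom
  have hpush : CategoryTheory.IsPushout (p.appLE W V hVW) (s.appLE W T₀ hTW)
      (π.appLE V V' inf_le_left) (q.appLE T₀ V' inf_le_right) :=
    (isIso_pushoutSection_iff hpb hTW hVW hV'def).1
      (isIso_pushoutSection_of_isAffineOpen hpb hTW hVW hV'def hW hT₀ hV)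
  have he'V : e' ⁻¹ᵁ V' = T₀ := by
    show e' ⁻¹ᵁ (π ⁻¹ᵁ V) ⊓ e' ⁻¹ᵁ (q ⁻¹ᵁ T₀) = T₀
    rw [← Scheme.Hom.comp_preimage, ← Scheme.Hom.comp_preimage, he'π, he'q, Scheme.Hom.comp_preimage,
      heV, Scheme.Hom.id_preimage]
    exact inf_eq_right.2 hTW
  algebraize [(p.appLE W V hVW).hom, (s.appLE W T₀ hTW).hom, (π.appLE V V' inf_le_left).hom,
    (q.appLE T₀ V' inf_le_right).hom]
  let _ : Algebra Γ(U, W) Γ(X', V') :=
    (p.appLE W V hVW ≫ π.appLE V V' inf_le_left).hom.toAlgebra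
  have : IsScalarTower Γ(U, W) Γ(X, V) Γ(X', V') := IsScalarTower.of_algebraMap_eq' rfl
  have : IsScalarTower Γ(U, W) Γ(T, T₀) Γ(X', V') :=
    IsScalarTower.of_algebraMap_eq' (congrArg CommRingCat.Hom.hom hpush.w)
  have : Algebra.IsPushout Γ(U, W) Γ(T, T₀) Γ(X, V) Γ(X', V') :=
    CommRingCat.isPushout_iff_isPushout.1 hpush.flip
  let ε : Γ(X, V) →ₐ[Γ(U, W)] Γ(U, W) :=
    { toRingHom := (e.appLE V W heV.ge).hom
      commutes' := fun r => by
        show (p.appLE W V hVW ≫ e.appLE V W heV.ge) r = r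
        simp only [Scheme.Hom.appLE_comp_appLE, he]
        simp [Scheme.Hom.appLE]
        exact ConcreteCategory.congr_hom (U.presheaf.map_id (op W)) r }
  let ε' : Γ(X', V') →+* Γ(T, T₀) := (e'.appLE V' T₀ he'V.ge).hom
  have hεA : ∀ a, ε' (algebraMap Γ(X, V) Γ(X', V') a) = algebraMap Γ(U, W) Γ(T, T₀) (ε a) := by
    intro a
    show (π.appLE V V' inf_le_left ≫ e'.appLE V' T₀ he'V.ge) a =
      (e.appLE V W heV.ge ≫ s.appLE W T₀ hTW) a
    simp only [Scheme.Hom.appLE_comp_appLE, he'π]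
  have hεR : ∀ r, ε' (algebraMap Γ(T, T₀) Γ(X', V') r) = r := by
    intro r
    show (q.appLE T₀ V' inf_le_right ≫ e'.appLE V' T₀ he'V.ge) r = r
    simp only [Scheme.Hom.appLE_comp_appLE, he'q]
    simp [Scheme.Hom.appLE]
    exact ConcreteCategory.congr_hom (T.presheaf.map_id (op T₀)) r
  have hI : RingHom.ker ε = e.ker.ideal ⟨V, hV⟩ := ker_appLE_of_preimage_eq e ⟨V, hV⟩ W heV
  have hI' : RingHom.ker ε' = e'.ker.ideal ⟨V', hV'⟩ :=
    ker_appLE_of_preimage_eq e' ⟨V', hV'⟩ T₀ he'V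
  -- sections of the ideal as the kernel
  let M := ClSub.idealMod e.ker
  let P := (Scheme.Modules.pullback π).obj M
  let N := ClSub.idealMod e'.ker
  have hex : ∀ i : RingHom.ker ε, ∃ m : Γ(M, V), OmegaSh.idealSect e.ker V m = i.1 := fun i =>
    exists_idealSect_eq e.ker ⟨V, hV⟩ i.1 (hI ▸ i.2)
  choose lift hlift using hex
  let _ : Module Γ(X, V) Γ(P, V') := Module.compHom _ (algebraMap Γ(X, V) Γ(X', V'))
  have : IsScalarTower Γ(X, V) Γ(X', V') Γ(P, V') := ⟨fun a b z => by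
    rw [Algebra.smul_def, mul_smul]; rfl⟩
  have hres : ∀ (a : Γ(X, V)) (m : Γ(M, V)),
      P.presheaf.map (homOfLE (inf_le_left : V' ≤ _)).op (OmegaSh.pullSect π M V (a • m)) =
        a • P.presheaf.map (homOfLE (inf_le_left : V' ≤ _)).op (OmegaSh.pullSect π M V m) :=
    fun a m => by
      rw [OmegaSh.pullSect_smul, Scheme.Modules.map_smul]
      rfl
  let L : RingHom.ker ε →ₗ[Γ(X, V)] Γ(P, V') :=
    { toFun := fun i => P.presheaf.map (homOfLE (inf_le_left : V' ≤ _)).op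
        (OmegaSh.pullSect π M V (lift i))
      map_add' := fun i j => by
        rw [← map_add, ← map_add]
        congr 2
        exact idealSect_injective _ _ (by rw [map_add, hlift, hlift, hlift]; rfl)
      map_smul' := fun a i => by
        rw [RingHom.id_apply, ← hres]
        congr 2
        exact idealSect_injective _ _ (by rw [idealSect_smul, hlift, hlift]; rfl) }
  let Θ := LinearMap.liftBaseChange Γ(X', V') L
  let Ψ : Γ(P, V') →ₗ[Γ(X', V')] Γ(X', V') :=
    { toFun := fun z => OmegaSh.idealSect e'.ker V' (φ.app V' z)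
      map_add' := fun z w => by rw [map_add, map_add]
      map_smul' := fun b z => by
        rw [RingHom.id_apply, Scheme.Modules.Hom.app_smul, idealSect_smul]; rfl }
  have hΨL : ∀ i, Ψ (L i) = algebraMap Γ(X, V) Γ(X', V') i.1 := by
    intro i
    show OmegaSh.idealSect e'.ker V' (φ.app V' (P.presheaf.map _ _)) = π.appLE V V' inf_le_left i.1
    rw [QCohLib.app_map, ← hlift i]
    show OmegaSh.fnSect X' V' ((ClSub.idealModι e'.ker).app V' _) = _
    rw [QCohLib.app_map]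
    exact congrArg (X'.presheaf.map (homOfLE (inf_le_left : V' ≤ _)).op) (hφ V (lift i))
  have hΨΘ : Ψ.comp Θ = LinearMap.liftBaseChange Γ(X', V')
      ((Algebra.linearMap Γ(X, V) Γ(X', V')).comp (RingHom.ker ε).subtype) := by
    refine TensorProduct.AlgebraTensorModule.ext fun b i => ?_
    simp only [Θ, LinearMap.comp_apply, LinearMap.liftBaseChange_tmul, map_smul, hΨL]
    rfl
  have hinj : ∀ z, Ψ (Θ z) = 0 → z = 0 := fun z hz =>
    injective_mul (R := Γ(U, W)) (R' := Γ(T, T₀)) ε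
      ((LinearMap.congr_fun hΨΘ z).symm.trans (hz.trans (map_zero _).symm))
  have hrange : ∀ b ∈ e'.ker.ideal ⟨V', hV'⟩, ∃ z, Ψ (Θ z) = b := by
    intro b hb
    rw [← hI', ker_eq_map ε ε' hεA hεR] at hb
    induction hb using Submodule.span_induction with
    | mem b hb =>
      obtain ⟨a, ha, rfl⟩ := hb
      refine ⟨1 ⊗ₜ ⟨a, ha⟩, ?_⟩
      show (Ψ.comp Θ) _ = _
      rw [hΨΘ, LinearMap.liftBaseChange_tmul, one_smul]
      rfl
    | zero => exact ⟨0, by rw [map_zero, map_zero]⟩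
    | add b c _ _ hb hc =>
      obtain ⟨z, hz⟩ := hb
      obtain ⟨w, hw⟩ := hc
      exact ⟨z + w, by rw [map_add, map_add, hz, hw]⟩
    | smul r b _ hb =>
      obtain ⟨z, hz⟩ := hb
      exact ⟨r • z, by rw [map_smul, map_smul, hz]⟩
  -- the stalk of the pullback
  let g := X'.presheaf.germ V' x hx
  have hunit : ∀ f, x ∈ X'.basicOpen f → IsUnit (g f) := fun f hf => (X'.mem_basicOpen f x hx).1 hf
  have hgen : ∀ γ : P.presheaf.stalk x, ∃ f z, x ∈ X'.basicOpen f ∧
      g f • γ = P.presheaf.germ V' x hx (Θ z) := by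
    intro γ
    have hγ : γ ∈ Submodule.span (X'.presheaf.stalk x) (pullGerms π M x) := by
      rw [span_pullGerms]; trivial
    have hone : x ∈ X'.basicOpen (1 : Γ(X', V')) := by
      rw [X'.basicOpen_of_isUnit isUnit_one]; exact hx
    induction hγ using Submodule.span_induction with
    | mem γ hγ =>
      obtain ⟨W₁, hW₁, m, rfl⟩ := hγ
      have := isQuasicoherent_idealMod e.ker
      obtain ⟨a, m₀, ha, hm₀⟩ := QCohLib.exists_smul_eq_germ (M := M) hV (π x) hx.1
        (M.presheaf.germ W₁ (π x) hW₁ m)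
      refine ⟨π.appLE V V' inf_le_left a, 1 ⊗ₜ ⟨OmegaSh.idealSect e.ker V m₀,
        hI ▸ idealSect_mem e.ker ⟨V, hV⟩ m₀⟩, ?_, ?_⟩
      · rw [Scheme.Hom.appLE]
        rw [CommRingCat.comp_apply, Scheme.basicOpen_res]
        exact ⟨hx, by rw [← Scheme.preimage_basicOpen]; exact ha⟩
      · rw [show Θ _ = L ⟨OmegaSh.idealSect e.ker V m₀, _⟩ from
          (LinearMap.liftBaseChange_tmul _ _ _ _).trans (one_smul _ _)]
        show g (π.appLE V V' inf_le_left a) • _ = P.presheaf.germ V' x hx (P.presheaf.map _ _)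
        rw [show lift _ = m₀ from idealSect_injective _ _ (hlift _), TopCat.Presheaf.germ_res_apply]
        -- compare on a common open
        have hW₂ : π x ∈ W₁ ⊓ V := ⟨hW₁, hx.1⟩
        rw [← TopCat.Presheaf.germ_res_apply M.presheaf (homOfLE inf_le_left : W₁ ⊓ V ⟶ W₁) _ hW₂ m,
          ← TopCat.Presheaf.germ_res_apply X.presheaf (homOfLE inf_le_right : W₁ ⊓ V ⟶ V) _ hW₂ a,
          ← QCohLib.germ_smul,
          ← TopCat.Presheaf.germ_res_apply M.presheaf (homOfLE inf_le_right : W₁ ⊓ V ⟶ V) _ hW₂ m₀]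
          at hm₀
        obtain ⟨W₂, hxW₂, i₁, i₂, heq⟩ := M.presheaf.germ_eq _ hW₂ hW₂ _ _ hm₀
        obtain rfl : i₁ = i₂ := Subsingleton.elim _ _
        rw [Scheme.Modules.map_smul] at heq
        have h2 := congrArg (fun z => P.presheaf.germ (π ⁻¹ᵁ W₂) x hxW₂ (OmegaSh.pullSect π M W₂ z)) heq
        simp only [OmegaSh.pullSect_smul, QCohLib.germ_smul] at h2
        rw [show i₁ = homOfLE i₁.le from Subsingleton.elim _ _] at h2
        simp only [OmegaSh.pullSect_map] at h2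
        rw [TopCat.Presheaf.germ_res_apply, TopCat.Presheaf.germ_res_apply,
          TopCat.Presheaf.germ_res_apply, TopCat.Presheaf.germ_res_apply] at h2
        refine Eq.trans ?_ h2
        congr 1
        simp only [g, Scheme.Hom.appLE, CommRingCat.comp_apply]
        simp [TopCat.Presheaf.germ_res_apply]
    | zero => exact ⟨1, 0, hone, by rw [smul_zero, map_zero]; exact (map_zero (P.presheaf.germ V' x hx).hom).symm⟩
    | add γ δ _ _ hγ hδ =>
      obtain ⟨f, z, hf, h1⟩ := hγ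
      obtain ⟨f', z', hf', h2⟩ := hδ
      refine ⟨f * f', f' • z + f • z', by rw [X'.basicOpen_mul]; exact ⟨hf, hf'⟩, ?_⟩
      rw [map_add, map_smul, map_smul, map_add, QCohLib.germ_smul, QCohLib.germ_smul, ← h1, ← h2,
        smul_add, map_mul, smul_smul, smul_smul, mul_comm (g f') (g f)]
    | smul r γ _ hγ =>
      obtain ⟨f, z, hf, h1⟩ := hγ
      let _ := TopCat.Presheaf.algebra_section_stalk X'.presheaf ⟨x, hx⟩
      have := hV'.isLocalization_stalk ⟨x, hx⟩
      obtain ⟨⟨b, c, hc⟩, hbc⟩ := IsLocalization.surj (hV'.primeIdealOf ⟨x, hx⟩).asIdeal.primeCompl r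
      have hc' : x ∈ X'.basicOpen c := (QCohLib.mem_basicOpen_iff_notMem_primeIdealOf hV' hx c).2 hc
      refine ⟨f * c, b • z, by rw [X'.basicOpen_mul]; exact ⟨hf, hc'⟩, ?_⟩
      rw [map_smul, QCohLib.germ_smul, ← h1, smul_smul, smul_smul, map_mul]
      congr 1
      have hbc' : r * g c = g b := hbc
      rw [← hbc']
      ring
  have hstalk : ∀ z, QCohLib.stalkHom φ x (P.presheaf.germ V' x hx z) =
      N.presheaf.germ V' x hx (φ.app V' z) := fun z => QCohLib.stalkHom_germ φ V' x hx z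
  have hNq := isQuasicoherent_idealMod e'.ker
  refine ⟨(injective_iff_map_eq_zero _).2 fun γ hγ => ?_, fun n => ?_⟩
  · obtain ⟨f, z, hf, hfz⟩ := hgen γ
    have h0 : N.presheaf.germ V' x hx (φ.app V' (Θ z)) = 0 := by
      rw [← hstalk, ← hfz, ← QCohLib.stalkLinearMap_apply, map_smul, QCohLib.stalkLinearMap_apply,
        hγ, smul_zero]
    obtain ⟨c, hc, hcz⟩ := (QCohLib.germ_eq_zero_iff hV' x hx _).1 h0
    have : c • z = 0 := hinj _ (by
      rw [map_smul, map_smul]
      show c * OmegaSh.idealSect e'.ker V' (φ.app V' (Θ z)) = 0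
      rw [← idealSect_smul, hcz, map_zero])
    have h1 : g c • g f • γ = 0 := by
      rw [hfz, ← QCohLib.germ_smul, ← map_smul, this, map_zero]
      exact map_zero (P.presheaf.germ V' x hx).hom
    exact (hunit f hf).smul_eq_zero.1 ((hunit c hc).smul_eq_zero.1 h1)
  · obtain ⟨f, m, hf, hfm⟩ := QCohLib.exists_smul_eq_germ (M := N) hV' x hx n
    obtain ⟨z, hz⟩ := hrange _ (idealSect_mem e'.ker ⟨V', hV'⟩ m)
    obtain ⟨u, hu⟩ := hunit f hf
    refine ⟨(↑u⁻¹ : X'.presheaf.stalk x) • P.presheaf.germ V' x hx (Θ z), ?_⟩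
    rw [← QCohLib.stalkLinearMap_apply, map_smul, QCohLib.stalkLinearMap_apply, hstalk,
      show φ.app V' (Θ z) = m from idealSect_injective _ _ hz, ← hfm, ← hu, smul_smul, Units.inv_mul,
      one_smul]

end Groth.Agent.ConormalSection
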