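import Groth.Agent.ConormalSection.Ideal
import Groth.Agent.QCohLib.Cover
import Groth.Agent.QCohLib.Pullback
import Groth.Prelude.Def_Omega2

/-! The conormal sheaf is local for open immersions of the ambient scheme. -/

set_option autoImplicit false
universe u
open CategoryTheory Limits AlgebraicGeometry TopologicalSpace Opposite

namespace Groth.Agent.ConormalSection

theorem restrict_idealMod {O X : Scheme.{u}} (j : O ⟶ X) [IsOpenImmersion j] (K : X.IdealSheafData)
    (K' : O.IdealSheafData) (hle : K ≤ K'.map j)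
    (h : ∀ W : O.affineOpens, K'.ideal W =
      (K.ideal ⟨j ''ᵁ W.1, W.2.image_of_isOpenImmersion _⟩).comap (j.appIso W.1).inv.hom) :
    Nonempty ((Scheme.Modules.restrictFunctor j).obj (ClSub.idealMod K) ≅ ClSub.idealMod K') := by
  let g : K'.subscheme ⟶ K.subscheme :=
    IsClosedImmersion.lift K.subschemeι (K'.subschemeι ≫ j) (by rwa [K.ker_subschemeι])
  have hg : g ≫ K.subschemeι = K'.subschemeι ≫ j := IsClosedImmersion.lift_fac _ _ _
  let c : (Scheme.Modules.restrictFunctor j).obj (ClSub.idealMod K) ⟶ Coh.structureModule O :=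
    (Scheme.Modules.restrictFunctor j).map (ClSub.idealModι K) ≫
      (Scheme.Modules.restrictUnitIso j).hom
  have hc : ∀ (W : O.Opens) (m : Γ(ClSub.idealMod K, j ''ᵁ W)),
      (c.app W m : Γ(O, W)) = (j.appIso W).hom (OmegaSh.idealSect K (j ''ᵁ W) m) := fun W m => rfl
  have hc0 : c ≫ ClSub.toSubscheme K' = 0 := by
    refine Scheme.Modules.hom_ext _ _ fun W => ?_
    ext m
    show K'.subschemeι.app W ((j.appIso W).hom (OmegaSh.idealSect K (j ''ᵁ W) m)) = 0
    have key : ∀ (ψ : K'.subscheme ⟶ X) (hle' : K'.subschemeι ⁻¹ᵁ W ≤ ψ ⁻¹ᵁ (j ''ᵁ W)),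
        g ≫ K.subschemeι = ψ →
          ψ.appLE (j ''ᵁ W) (K'.subschemeι ⁻¹ᵁ W) hle' (OmegaSh.idealSect K (j ''ᵁ W) m) = 0 := by
      rintro ψ hle' rfl
      rw [Scheme.Hom.comp_appLE, CommRingCat.comp_apply, subschemeι_app_idealSect, map_zero]
    have := key (K'.subschemeι ≫ j)
      (le_of_eq (by rw [Scheme.Hom.comp_preimage, Scheme.Hom.preimage_image_eq])) hg
    rw [Scheme.Hom.appIso_hom', Scheme.Hom.app_eq_appLE, ← CommRingCat.comp_apply,
      Scheme.Hom.appLE_comp_appLE]
    exact this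
  let ψ : (Scheme.Modules.restrictFunctor j).obj (ClSub.idealMod K) ⟶ ClSub.idealMod K' :=
    kernel.lift (ClSub.toSubscheme K') c hc0
  have hψ : ∀ (W : O.Opens) (m : Γ(ClSub.idealMod K, j ''ᵁ W)),
      OmegaSh.idealSect K' W (ψ.app W m) = (j.appIso W).hom (OmegaSh.idealSect K (j ''ᵁ W) m) := by
    intro W m
    rw [← hc]
    exact congr(($(kernel.lift_ι (ClSub.toSubscheme K') c hc0)).app W m)
  have := isQuasicoherent_idealMod K'
  have := isQuasicoherent_idealMod K
  have : ((Scheme.Modules.restrictFunctor j).obj (ClSub.idealMod K)).IsQuasicoherent :=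
    have := QCohLib.isQuasicoherent_pullback j (ClSub.idealMod K)
    QCohLib.isQuasicoherent_of_iso ((Scheme.Modules.restrictFunctorIsoPullback j).app _).symm
  have : IsIso ψ := by
    refine QCohLib.isIso_of_cover_bijective (fun W : O.affineOpens => W.1) (fun W => W.2)
      (fun x => QCohLib.exists_affine_mem x) ψ fun W => ⟨fun m n hmn => ?_, fun n => ?_⟩
    · have := congrArg (OmegaSh.idealSect K' W.1) hmn
      rw [hψ, hψ] at this
      exact idealSect_injective K _ ((j.appIso W.1).commRingCatIsoToRingEquiv.injective this)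
    · have hn := idealSect_mem K' W n
      rw [h, Ideal.mem_comap] at hn
      obtain ⟨m, hm⟩ := exists_idealSect_eq K ⟨_, W.2.image_of_isOpenImmersion _⟩ _ hn
      refine ⟨m, idealSect_injective K' W.1 ?_⟩
      rw [hψ, hm]
      exact congr(($((j.appIso W.1).inv_hom_id)) _)
  exact ⟨asIso ψ⟩

/-- the conormal sheaf restricts to opens of the ambient scheme -/
theorem conormal_restrict {O X T T' : Scheme.{u}} (j : O ⟶ X) [IsOpenImmersion j] (e : T ⟶ X)
    [QuasiCompact e] (e₀ : T' ⟶ O) (i : T' ⟶ T) (H : IsPullback e₀ i j e) :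
    Nonempty ((Scheme.Modules.pullback i).obj (Omega.conormal e) ≅ Omega.conormal e₀) := by
  obtain ⟨a⟩ := restrict_idealMod j e.ker e₀.ker (by
    rw [Scheme.IdealSheafData.map_ker, H.w]; exact Scheme.Hom.le_ker_comp i e)
    (fun W => Scheme.ker_ideal_of_isPullback_of_isOpenImmersion e e₀ i j H W)
  exact ⟨(Scheme.Modules.pullbackComp i e).app _ ≪≫
    (Scheme.Modules.pullbackCongr H.w.symm).app _ ≪≫
    ((Scheme.Modules.pullbackComp e₀ j).app _).symm ≪≫
    (Scheme.Modules.pullback e₀).mapIso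
      (((Scheme.Modules.restrictFunctorIsoPullback j).app _).symm ≪≫ a)⟩

end Groth.Agent.ConormalSection
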