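import Mathlib.RingTheory.IsTensorProduct
import Mathlib.RingTheory.Ideal.Maps

/-! Base change of the augmentation ideal of a split algebra. -/

set_option autoImplicit false
open TensorProduct

namespace Groth.Agent.ConormalSection

variable {R A R' B : Type*} [CommRing R] [CommRing A] [CommRing R'] [CommRing B]
  [Algebra R A] [Algebra R R'] [Algebra A B] [Algebra R' B] [Algebra R B]
  [IsScalarTower R A B] [IsScalarTower R R' B] [h : Algebra.IsPushout R R' A B]

/-- the kernel of the base-changed augmentation is generated by the kernel of the augmentation -/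
theorem ker_eq_map (ε : A →ₐ[R] R) (ε' : B →+* R')
    (hA : ∀ a, ε' (algebraMap A B a) = algebraMap R R' (ε a))
    (hR : ∀ r, ε' (algebraMap R' B r) = r) :
    RingHom.ker ε' = (RingHom.ker ε).map (algebraMap A B) := by
  refine le_antisymm (fun b hb => ?_) (Ideal.map_le_iff_le_comap.2 fun a ha => ?_)
  · have key : b - algebraMap R' B (ε' b) ∈ (RingHom.ker ε).map (algebraMap A B) := by
      clear hb
      induction b using h.out.inductionOn with
      | zero => simp
      | tmul a =>
        change algebraMap A B a - algebraMap R' B (ε' (algebraMap A B a)) ∈ _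
        rw [hA, ← IsScalarTower.algebraMap_apply R R' B, IsScalarTower.algebraMap_apply R A B,
          ← map_sub]
        exact Ideal.mem_map_of_mem _ (by simp [RingHom.mem_ker])
      | smul r c hc =>
        rw [Algebra.smul_def, map_mul, hR, map_mul, ← mul_sub]
        exact Ideal.mul_mem_left _ _ hc
      | add c d hc hd =>
        rw [map_add, map_add, add_sub_add_comm]
        exact Ideal.add_mem _ hc hd
    rwa [(RingHom.mem_ker).1 hb, map_zero, sub_zero] at key
  · rw [Ideal.mem_comap, RingHom.mem_ker, hA, (RingHom.mem_ker).1 ha, map_zero]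

include h in
/-- the augmentation ideal stays a submodule after base change -/
theorem injective_mul (ε : A →ₐ[R] R) :
    Function.Injective (LinearMap.liftBaseChange B
      ((Algebra.linearMap A B).comp (RingHom.ker ε).subtype)) := by
  let I : Ideal A := RingHom.ker ε
  have hr : ∀ (r : R) (z : B ⊗[A] I), r • z = algebraMap R B r • z := fun r z =>
    (algebraMap_smul B r z).symm
  have hr' : ∀ (r : R') (z : B ⊗[A] I), r • z = algebraMap R' B r • z := fun r z =>
    (algebraMap_smul B r z).symm
  have : IsScalarTower R R' (B ⊗[A] I) := ⟨fun r r' z => by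
    rw [hr, hr', hr', Algebra.smul_def, map_mul, mul_smul, ← IsScalarTower.algebraMap_apply]⟩
  have hmem : ∀ a, a - algebraMap R A (ε a) ∈ I := fun a => by simp [I, RingHom.mem_ker]
  let θ₀ : A →ₗ[R] B ⊗[A] I :=
    { toFun := fun a => (1 : B) ⊗ₜ[A] ⟨_, hmem a⟩
      map_add' := fun a a' => by
        rw [← tmul_add]; congr 1; exact Subtype.ext (by simp [add_sub_add_comm])
      map_smul' := fun r a => by
        rw [RingHom.id_apply, hr, IsScalarTower.algebraMap_apply R A B, algebraMap_smul, ← tmul_smul]
        congr 1
        exact Subtype.ext (by simp [Algebra.smul_def, mul_sub]) }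
  let θ := h.out.lift θ₀
  have hθ : ∀ (b : B) (i : I), θ (b * algebraMap A B i) = b ⊗ₜ[A] i := by
    intro b i
    induction b using h.out.inductionOn with
    | zero => simp
    | tmul a =>
      change θ (algebraMap A B a * algebraMap A B i) = algebraMap A B a ⊗ₜ[A] i
      rw [← map_mul]
      refine (IsBaseChange.lift_eq h.out θ₀ (a * i)).trans ?_
      rw [← mul_one (algebraMap A B a), ← Algebra.smul_def a (1 : B), smul_tmul]
      show (1 : B) ⊗ₜ[A] _ = (1 : B) ⊗ₜ[A] (a • i)
      congr 1
      exact Subtype.ext (by
        show a * i - algebraMap R A (ε (a * i)) = a * i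
        rw [map_mul, (RingHom.mem_ker).1 i.2, mul_zero, map_zero, sub_zero])
    | smul r c hc =>
      rw [smul_mul_assoc, map_smul, hc, smul_tmul']
    | add c d hc hd => rw [add_mul, map_add, hc, hd, add_tmul]
  refine Function.LeftInverse.injective (g := θ) fun z => ?_
  induction z using TensorProduct.induction_on with
  | zero => simp
  | tmul b i =>
    rw [LinearMap.liftBaseChange_tmul]
    exact hθ b i
  | add z w hz hw => rw [map_add, map_add, hz, hw]

end Groth.Agent.ConormalSection
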