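import Groth.Agent.ConormalSection.TestHom
import Groth.Agent.ConormalSection.Chart
import Groth.Prelude.Def_OmAff

/-! Sections of Omega over affine opens are the module of differentials. -/

set_option autoImplicit false
universe u
open CategoryTheory Limits AlgebraicGeometry TopologicalSpace Opposite
open scoped TensorProduct

namespace Groth.Agent.ConormalSection

variable {X Y : Scheme.{u}} (f : X ⟶ Y) [QuasiSeparated f]

theorem bijective_toSect {U : X.Opens} {V : Y.Opens} (hU : IsAffineOpen U) (hV : IsAffineOpen V)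
    (h : U ≤ f ⁻¹ᵁ V) : Function.Bijective (OmAff.toSect f V U h) := by
  let _ := (f.appLE V U h).hom.toAlgebra
  let W := OmegaSh.diagNbhd f U
  have hpb : IsPullback (pullback.fst f f) (pullback.snd f f) f f := IsPullback.of_hasPullback f f
  have hW : IsAffineOpen W := by
    have : IsAffine V := hV
    have : IsAffine U := hU
    exact .of_isIso (Scheme.Hom.isPullback_resLE hpb h h rfl).isoPullback.hom
  have hpush : CategoryTheory.IsPushout (f.appLE V U h) (f.appLE V U h)
      ((pullback.fst f f).appLE U W inf_le_left) ((pullback.snd f f).appLE U W inf_le_right) :=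
    (isIso_pushoutSection_iff hpb h h rfl).1
      (isIso_pushoutSection_of_isAffineOpen hpb h h rfl hV hU hU)
  have hT := CommRingCat.isPushout_tensorProduct Γ(Y, V) Γ(X, U) Γ(X, U)
  let ε : CommRingCat.of (Γ(X, U) ⊗[Γ(Y, V)] Γ(X, U)) ≅ Γ(pullback f f, W) :=
    hT.isoIsPushout _ _ hpush
  have hεl : CommRingCat.ofHom Algebra.TensorProduct.includeLeftRingHom ≫ ε.hom =
      (pullback.fst f f).appLE U W inf_le_left := hT.inl_isoIsPushout_hom _ _ hpush
  have hεr : CommRingCat.ofHom (Algebra.TensorProduct.includeRight (R := Γ(Y, V))).toRingHom ≫ ε.hom =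
      (pullback.snd f f).appLE U W inf_le_right := hT.inr_isoIsPushout_hom _ _ hpush
  have hle : U ≤ pullback.diagonal f ⁻¹ᵁ W := OmegaSh.le_preimage_diagNbhd f U
  let δ := (pullback.diagonal f).appLE W U hle
  let μ : CommRingCat.of (Γ(X, U) ⊗[Γ(Y, V)] Γ(X, U)) ⟶ Γ(X, U) :=
    CommRingCat.ofHom (Algebra.TensorProduct.lmul' Γ(Y, V) :
      Γ(X, U) ⊗[Γ(Y, V)] Γ(X, U) →ₐ[Γ(Y, V)] Γ(X, U)).toRingHom
  have hμ : ε.hom ≫ δ = μ := by
    refine hT.hom_ext ?_ ?_
    · rw [reassoc_of% hεl, Scheme.Hom.appLE_comp_appLE, OmegaSh.id_appLE_eq_id (pullback.diagonal_fst f)]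
      ext a; exact (_root_.mul_one a).symm
    · rw [reassoc_of% hεr, Scheme.Hom.appLE_comp_appLE, OmegaSh.id_appLE_eq_id (pullback.diagonal_snd f)]
      ext a; exact (_root_.one_mul a).symm
  have hμi : ∀ b, μ (ε.inv b) = δ b := fun b => by
    rw [← hμ, ← CommRingCat.comp_apply, ← Category.assoc, Iso.inv_hom_id, Category.id_comp]
  let K := (pullback.diagonal f).ker
  have hK : RingHom.ker δ.hom = K.ideal ⟨W, hW⟩ :=
    ker_appLE_of_preimage_eq (pullback.diagonal f) ⟨W, hW⟩ U
      (le_antisymm (OmegaSh.diagonal_preimage_le f le_rfl) hle)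
  let Id := KaehlerDifferential.ideal Γ(Y, V) Γ(X, U)
  have hmem : ∀ m, ε.inv (OmegaSh.idealSect K W m) ∈ Id := fun m => by
    show μ (ε.inv _) = 0
    rw [hμi]
    exact RingHom.mem_ker.1 (hK ▸ idealSect_mem K ⟨W, hW⟩ m)
  have hsm : ∀ (b : Γ(X, U) ⊗[Γ(Y, V)] Γ(X, U)) (w : Ω[Γ(X, U)⁄Γ(Y, V)]), b • w = μ b • w := fun b w => by
    obtain ⟨i, rfl⟩ := KaehlerDifferential.fromIdeal_surjective Γ(Y, V) Γ(X, U) w
    rw [← IsScalarTower.algebraMap_smul (Γ(X, U) ⊗[Γ(Y, V)] Γ(X, U)) (μ b), ← sub_eq_zero, ← sub_smul,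
      ← map_smul]
    refine (Ideal.toCotangent_eq_zero _ _).2 ?_
    rw [pow_two]
    refine Ideal.mul_mem_mul ?_ i.2
    rw [RingHom.mem_ker, map_sub, sub_eq_zero]
    exact (_root_.mul_one (μ b)).symm
  let T : ModuleCat.{u} Γ(X, U) := CommRingCat.KaehlerDifferential (f.appLE V U h)
  let l : Γ(ClSub.idealMod K, W) →+ T :=
    AddMonoidHom.mk' (fun m => (KaehlerDifferential.fromIdeal Γ(Y, V) Γ(X, U) ⟨_, hmem m⟩ :)) fun m n => by
      refine (congrArg (KaehlerDifferential.fromIdeal Γ(Y, V) Γ(X, U))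
        (?_ : _ = (⟨_, hmem m⟩ + ⟨_, hmem n⟩ : Id))).trans (map_add _ _ _)
      exact Subtype.ext (by show ε.inv _ = ε.inv _ + ε.inv _; rw [map_add, map_add])
  have hl : ∀ b m, l (b • m) = δ b • l m := fun b m => by
    show KaehlerDifferential.fromIdeal Γ(Y, V) Γ(X, U) _ = δ b • KaehlerDifferential.fromIdeal Γ(Y, V) Γ(X, U) _
    rw [← hμi, ← hsm, ← map_smul]
    congr 1
    refine Subtype.ext ?_
    show ε.inv _ = ε.inv b * ε.inv _
    rw [idealSect_smul, map_mul]
  have hεD : ∀ b : Γ(X, U),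
      ε.hom (1 ⊗ₜ[Γ(Y, V)] b - b ⊗ₜ[Γ(Y, V)] 1) = OmegaSh.diagDiff f U b := fun b => by
    rw [map_sub, OmegaSh.diagDiff, ← hεl, ← hεr]
    rfl
  have hlD : ∀ b, l (OmegaSh.idealLift f U b) = CommRingCat.KaehlerDifferential.d b := fun b => by
    show KaehlerDifferential.fromIdeal Γ(Y, V) Γ(X, U) _ = KaehlerDifferential.D Γ(Y, V) Γ(X, U) b
    rw [KaehlerDifferential.D_apply]
    refine congrArg (KaehlerDifferential.fromIdeal Γ(Y, V) Γ(X, U)) (Subtype.ext ?_)
    show ε.inv (OmegaSh.fnSect (pullback f f) W _) = _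
    rw [OmegaSh.ι_idealLift]
    show ε.inv (OmegaSh.diagDiff f U b) = _
    rw [← hεD]
    exact congr(($(ε.hom_inv_id)) _)
  have := isQuasicoherent_idealMod K
  constructor
  · obtain ⟨N, ψ, r, hr, hrs, hra, hrl⟩ := exists_testHom (pullback.diagonal f) (ClSub.idealMod K) hW hU hle T l hl
    have hF : ∀ z : Ω[Γ(X, U)⁄Γ(Y, V)], ψ.app U (OmAff.toSect f V U h z) = r z := by
      intro z
      have hz : z ∈ Submodule.span Γ(X, U) (Set.range (KaehlerDifferential.D Γ(Y, V) Γ(X, U))) := by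
        rw [KaehlerDifferential.span_range_derivation]; trivial
      induction hz using Submodule.span_induction with
      | mem y hy =>
        obtain ⟨b, rfl⟩ := hy
        refine (congrArg (ψ.app U) (OmAff.toSect_d f V U h b)).trans ((hrl _).trans ?_)
        rw [hlD]
        rfl
      | zero =>
        rw [show OmAff.toSect f V U h (0 : Ω[Γ(X, U)⁄Γ(Y, V)]) = 0 from map_zero (OmAff.toSect f V U h).hom]
        have h0 := hra 0 0
        rw [add_zero, left_eq_add] at h0
        exact (map_zero (ψ.app U).hom).trans h0.symm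
      | add y w _ _ hy hw =>
        rw [show OmAff.toSect f V U h (y + w) = OmAff.toSect f V U h y + OmAff.toSect f V U h w from
          map_add (OmAff.toSect f V U h).hom y w]
        exact (map_add (ψ.app U).hom _ _).trans ((congrArg₂ (· + ·) hy hw).trans (hra y w).symm)
      | smul a y _ hy =>
        rw [show OmAff.toSect f V U h (a • y) = a • OmAff.toSect f V U h y from
          map_smul (OmAff.toSect f V U h).hom a y]
        exact (Scheme.Modules.Hom.app_smul ψ a _).trans ((congrArg (a • ·) hy).trans (hrs a y).symm)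
    intro y w hyw
    exact hr ((hF y).symm.trans ((congrArg (ψ.app U) hyw).trans (hF w)))
  · intro z
    suffices hs : Submodule.span Γ(X, U) (Set.range (pullRes (pullback.diagonal f) (ClSub.idealMod K) hle)) ≤
        LinearMap.range (OmAff.toSect f V U h).hom from
      hs (by rw [span_pullRes _ _ hW hU hle]; trivial)
    rw [Submodule.span_le]
    rintro _ ⟨m, rfl⟩
    have hi : ε.inv (OmegaSh.idealSect K W m) ∈
        Submodule.span (Γ(X, U) ⊗[Γ(Y, V)] Γ(X, U))
          (Set.range fun s : Γ(X, U) => (1 : Γ(X, U)) ⊗ₜ[Γ(Y, V)] s - s ⊗ₜ[Γ(Y, V)] (1 : Γ(X, U))) := by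
      have := hmem m
      rwa [show Id = _ from (KaehlerDifferential.span_range_eq_ideal Γ(Y, V) Γ(X, U)).symm] at this
    suffices key : ∀ i, i ∈ Submodule.span (Γ(X, U) ⊗[Γ(Y, V)] Γ(X, U))
          (Set.range fun s : Γ(X, U) => (1 : Γ(X, U)) ⊗ₜ[Γ(Y, V)] s - s ⊗ₜ[Γ(Y, V)] (1 : Γ(X, U))) →
        ∃ m', OmegaSh.idealSect K W m' = ε.hom i ∧ pullRes (pullback.diagonal f) (ClSub.idealMod K) hle m' ∈
          LinearMap.range (OmAff.toSect f V U h).hom by
      obtain ⟨m', h1, h2⟩ := key _ hi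
      rw [show m = m' from idealSect_injective K W (h1.trans congr(($(ε.inv_hom_id)) _)).symm]
      exact h2
    intro i hi
    induction hi using Submodule.span_induction with
    | mem y hy =>
      obtain ⟨b, rfl⟩ := hy
      refine ⟨OmegaSh.idealLift f U b, ?_, ⟨_, OmAff.toSect_d f V U h b⟩⟩
      rw [hεD]
      show OmegaSh.fnSect (pullback f f) W _ = _
      rw [OmegaSh.ι_idealLift]
      rfl
    | zero => exact ⟨0, by rw [map_zero, map_zero], by
        have h0 := pullRes_add (pullback.diagonal f) (ClSub.idealMod K) hle 0 0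
        rw [add_zero, left_eq_add] at h0
        rw [h0]; exact zero_mem _⟩
    | add y w _ _ hy hw =>
      obtain ⟨m₁, e₁, r₁⟩ := hy
      obtain ⟨m₂, e₂, r₂⟩ := hw
      exact ⟨m₁ + m₂, by rw [map_add, map_add, e₁, e₂], by rw [pullRes_add]; exact add_mem r₁ r₂⟩
    | smul a y _ hy =>
      obtain ⟨m₁, e₁, r₁⟩ := hy
      refine ⟨ε.hom a • m₁, by rw [idealSect_smul, e₁, smul_eq_mul, map_mul], ?_⟩
      rw [pullRes_smul]
      exact Submodule.smul_mem _ _ r₁

end Groth.Agent.ConormalSection
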